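import Groth.Agent.GenusOneTwist.Chart
import Groth.Agent.ProjCodim.Main
import Groth.Agent.PicPn.Main
import Groth.Agent.S10840
import Groth.Agent.S10829
import Groth.Agent.W7OnePole.Weierstrass

/-!
# An integral curve in the plane is a hypersurface
-/

set_option autoImplicit false
set_option linter.style.haveILetI false
set_option backward.isDefEq.respectTransparency false
set_option backward.isDefEq.respectTransparency.types false

universe u

open CategoryTheory AlgebraicGeometry TopologicalSpace MvPolynomial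
open Groth.Agent.QC (res resO resO_resO resO_self)

noncomputable section

namespace Groth.Agent.GenusZeroDesc

variable {k : Type u} [Field k] {n : ℕ}

/-- The prime of a point. -/
abbrev pr (x : PicPn.P n k) : Ideal (MvPolynomial (Fin (n + 1)) k) :=
  (show ProjectiveSpectrum (CohB1.polyGrading n k) from x).asHomogeneousIdeal.toIdeal

/-- A homogeneous element is in the prime iff its dehomogenisation vanishes there. -/
theorem mem_basicOpen_deh {l : Fin (n + 1)} {x : PicPn.P n k} (hx : x ∈ PicPn.ch (k := k) l) {d : ℕ}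
    {A : MvPolynomial (Fin (n + 1)) k} (hA : A ∈ CohB1.polyGrading n k d) :
    x ∈ (PicPn.P n k).basicOpen (GrT.deh (CohB1.polyGrading n k) (PicPn.X_mem l) A) ↔ A ∉ pr x := by
  have hl : X l ∉ pr x := (ProjectiveSpectrum.mem_basicOpen _ _ x).1 hx
  rcases Nat.eq_zero_or_pos d with hd | hd
  · subst hd
    have hA' : X l * A ∈ CohB1.polyGrading n k 1 := by
      simpa using SetLike.mul_mem_graded (PicPn.X_mem (k := k) l) hA
    have e : GrT.deh (CohB1.polyGrading n k) (PicPn.X_mem l) (X l * A) =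
        GrT.deh (CohB1.polyGrading n k) (PicPn.X_mem l) A := by
      rw [map_mul, GrT.deh_self, one_mul]
    rw [← e, GrT.deh_of_mem _ (PicPn.X_mem l) hA', GrT.basicOpen_away _ (PicPn.X_mem l) one_pos one_pos]
    refine (ProjectiveSpectrum.mem_basicOpen _ _ x).trans (not_congr ⟨fun h => ?_, fun h => ?_⟩)
    · exact (((show ProjectiveSpectrum (CohB1.polyGrading n k) from x).isPrime.mem_or_mem
        (((show ProjectiveSpectrum (CohB1.polyGrading n k) from x).isPrime.mem_or_mem h).resolve_left hl)).resolve_left hl)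
    · exact Ideal.mul_mem_left _ _ (Ideal.mul_mem_left _ _ h)
  · rw [GrT.deh_of_mem _ (PicPn.X_mem l) hA, GrT.basicOpen_away _ (PicPn.X_mem l) one_pos hd]
    exact (ProjectiveSpectrum.mem_basicOpen _ _ x).trans (not_congr
      ⟨fun h => ((show ProjectiveSpectrum (CohB1.polyGrading n k) from x).isPrime.mem_or_mem h).resolve_left hl,
        fun h => Ideal.mul_mem_left _ _ h⟩)

theorem not_isUnit_pr (x : PicPn.P n k) {A : MvPolynomial (Fin (n + 1)) k} (h : A ∈ pr x) : ¬ IsUnit A :=
  fun hu => (show ProjectiveSpectrum (CohB1.polyGrading n k) from x).isPrime.ne_top (Ideal.eq_top_of_isUnit_mem _ h hu)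

theorem pos_of_mem_pr (x : PicPn.P n k) {d : ℕ} {A : MvPolynomial (Fin (n + 1)) k}
    (hA : A ∈ CohB1.polyGrading n k d) (h : A ∈ pr x) (h0 : A ≠ 0) : 0 < d := by
  refine Nat.pos_of_ne_zero fun hd => not_isUnit_pr x h ?_
  subst hd
  have hA' : A.IsHomogeneous 0 := (MvPolynomial.mem_homogeneousSubmodule 0 A).1 hA
  have e : A = C (coeff 0 A) := MvPolynomial.totalDegree_eq_zero_iff_eq_C.1 (hA'.totalDegree h0)
  rw [e] at h0 ⊢
  exact (isUnit_iff_ne_zero.2 fun h' => h0 (by rw [h', map_zero])).map C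

variable {Y : Scheme.{u}} [IsIntegral Y] (i : Y ⟶ PicPn.P 2 k) [IsClosedImmersion i]
  (hdim : topologicalKrullDim Y = 1)

/-- The image of the generic point. -/
abbrev gpt : PicPn.P 2 k := i (genericPoint Y)

include hdim

omit hdim in
theorem range_subset {s : Set (MvPolynomial (Fin 3) k)} (h : ∀ A ∈ s, A ∈ pr (gpt i)) :
    Set.range i ⊆ ProjectiveSpectrum.zeroLocus (CohB1.polyGrading 2 k) s := by
  rintro _ ⟨z, rfl⟩
  exact ((genericPoint_specializes z).map i.continuous).mem_closed (ProjectiveSpectrum.isClosed_zeroLocus _ _) h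

/-- Two forms through the generic point are not coprime. -/
theorem not_isRelPrime {d e : ℕ} {A B : MvPolynomial (Fin 3) k} (hA : A ∈ CohB1.polyGrading 2 k d)
    (hB : B ∈ CohB1.polyGrading 2 k e) (hA0 : A ≠ 0) (hB0 : B ≠ 0) (hAx : A ∈ pr (gpt i)) (hBx : B ∈ pr (gpt i)) :
    ¬ IsRelPrime A B := by
  intro hc
  have h := (Groth.Agent.S10840.result k d e A B ((MvPolynomial.mem_homogeneousSubmodule d A).1 hA)
    ((MvPolynomial.mem_homogeneousSubmodule e B).1 hB) (pos_of_mem_pr _ hA hAx hA0) (pos_of_mem_pr _ hB hBx hB0)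
    hA0 hB0).2 hc
  have hsub := range_subset i (s := {A, B}) fun C hC => by
    rcases hC with rfl | rfl
    · exact hAx
    · exact hBx
  have hle := (Topology.IsInducing.topologicalKrullDim_le (f := Set.inclusion hsub)
    (Topology.IsEmbedding.inclusion hsub).isInducing).trans h.le
  rw [← IsHomeomorph.topologicalKrullDim_eq _ i.isClosedEmbedding.isEmbedding.toHomeomorph.isHomeomorph,
    hdim] at hle
  exact absurd hle (by decide)

/-- There is an irreducible form through the generic point. -/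
theorem exists_irreducible : ∃ (d : ℕ) (G : LefPen.Form 2 k d), 0 < d ∧ Irreducible G.1 ∧ G.1 ∈ pr (gpt i) := by
  classical
  obtain ⟨d, A, hA, hA0, hAx⟩ : ∃ (d : ℕ) (A : MvPolynomial (Fin 3) k),
      A ∈ CohB1.polyGrading 2 k d ∧ A ≠ 0 ∧ A ∈ pr (gpt i) := by
    by_contra hn
    push Not at hn
    have hbot : pr (gpt i) = ⊥ := by
      refine eq_bot_iff.2 fun a ha => ?_
      rw [Ideal.mem_bot, ← DirectSum.sum_support_decompose (CohB1.polyGrading 2 k) a]
      refine Finset.sum_eq_zero fun j _ => by_contra fun h => ?_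
      exact hn j _ (SetLike.coe_mem _) h
        ((show ProjectiveSpectrum (CohB1.polyGrading 2 k) from gpt i).asHomogeneousIdeal.2 j ha)
    have hr : Set.range i = Set.univ := Set.eq_univ_of_forall fun y => by
      have hg : ({gpt i} : Set (PicPn.P 2 k)) ⊆ Set.range i :=
        Set.singleton_subset_iff.2 (Set.mem_range_self (genericPoint Y))
      refine i.isClosedEmbedding.isClosed_range.closure_subset (closure_mono hg ?_)
      exact (ProjectiveSpectrum.le_iff_mem_closure _ (gpt i) y).1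
        (fun a ha => by
          have h' : a ∈ pr (gpt i) := ha
          rw [hbot, Ideal.mem_bot] at h'
          rw [h']; exact zero_mem _)
    haveI : Surjective i := ⟨Set.range_eq_univ.1 hr⟩
    have h2 := (IsHomeomorph.topologicalKrullDim_eq _ (isHomeomorph_iff_isEmbedding_surjective.2
      ⟨i.isClosedEmbedding.isEmbedding, i.surjective⟩)).symm.trans hdim
    exact absurd ((Groth.Agent.S10829.result k 2).symm.trans h2) (by decide)
  obtain ⟨f, hf, hfA⟩ := UniqueFactorizationMonoid.exists_prime_factors A hA0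
  obtain ⟨u, hu⟩ := hfA
  have hpr := (show ProjectiveSpectrum (CohB1.polyGrading 2 k) from gpt i).isPrime
  have hprod : f.prod ∈ pr (gpt i) := by
    rw [← hu] at hAx
    exact (hpr.mem_or_mem hAx).resolve_right fun h => not_isUnit_pr _ h u.isUnit
  obtain ⟨G, hG, hGx⟩ := (hpr.multiset_prod_mem_iff_exists_mem f).1 hprod
  obtain ⟨c, hc⟩ : G ∣ A := (Multiset.dvd_prod hG).trans (hu ▸ dvd_mul_right _ _)
  obtain ⟨e, he⟩ := ProjCodim.isHomogeneous_of_mul (p := G) (q := c) (d := d)
    (hc ▸ (MvPolynomial.mem_homogeneousSubmodule d A).1 hA) (hc ▸ hA0)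
  exact ⟨e, ⟨G, (MvPolynomial.mem_homogeneousSubmodule e G).2 he⟩, pos_of_mem_pr _
    ((MvPolynomial.mem_homogeneousSubmodule e G).2 he) hGx (hf G hG).ne_zero, (hf G hG).irreducible, hGx⟩

/-- The forms through the generic point are the multiples of the irreducible one. -/
theorem dvd_of_mem {d : ℕ} (G : LefPen.Form 2 k d) (hG : Irreducible G.1) (hGx : G.1 ∈ pr (gpt i)) {e : ℕ}
    {A : MvPolynomial (Fin 3) k} (hA : A ∈ CohB1.polyGrading 2 k e) (hAx : A ∈ pr (gpt i)) : G.1 ∣ A := by
  rcases eq_or_ne A 0 with rfl | hA0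
  · exact dvd_zero _
  by_contra hn
  exact not_isRelPrime i hdim G.2 hA hG.ne_zero hA0 hGx hAx (hG.isRelPrime_iff_not_dvd.2 hn)

/-- An integral curve in the plane is the hypersurface of any irreducible form through its generic point. -/
theorem ker_eq_hypIdeal {d : ℕ} (G : LefPen.Form 2 k d) (hG : Irreducible G.1) (hGx : G.1 ∈ pr (gpt i)) :
    i.ker = LefPen.hypIdeal G := by
  haveI : QuasiCompact i := inferInstance
  refine Scheme.IdealSheafData.ext_of_iSup_eq_top
    (fun l : Fin 3 => ⟨PicPn.ch (k := k) l, PicPn.isAffineOpen_ch l⟩)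
    (top_le_iff.1 fun y _ => Opens.mem_iSup.2 (PicPn.exists_mem_ch y)) fun l => ?_
  rw [Scheme.Hom.ker_apply, GenusOneTwist.hypIdeal_chart]
  by_cases hl : gpt i ∈ PicPn.ch (k := k) l
  · have key : ∀ {e : ℕ} {A : MvPolynomial (Fin 3) k}, A ∈ CohB1.polyGrading 2 k e →
        ((i.app (PicPn.ch (k := k) l)).hom (GrT.deh (CohB1.polyGrading 2 k) (PicPn.X_mem l) A) = 0 ↔ A ∈ pr (gpt i)) := by
      intro e A hA
      rw [← not_iff_not, ← mem_basicOpen_deh hl hA]
      rw [← basicOpen_eq_bot_iff, ← Scheme.preimage_basicOpen]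
      constructor
      · intro hb
        refine ((genericPoint_spec Y).mem_open_set_iff
          (i ⁻¹ᵁ (PicPn.P 2 k).basicOpen _).2).2 ?_
        rw [Set.univ_inter]
        by_contra hem
        exact hb (Opens.ext (Set.not_nonempty_iff_eq_empty.1 hem))
      · intro hm hb
        exact (hb.le hm : genericPoint Y ∈ (⊥ : Y.Opens))
    refine le_antisymm (fun h hh => ?_) ?_
    · obtain ⟨e, a, ha, -, rfl⟩ := GrT.exists_away (CohB1.polyGrading 2 k) (PicPn.X_mem l) one_pos h
      have ha' : a ∈ CohB1.polyGrading 2 k e := by simpa using ha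
      rw [RingHom.mem_ker] at hh
      rw [← GrT.deh_of_mem (CohB1.polyGrading 2 k) (PicPn.X_mem l) ha'] at hh ⊢
      exact Ideal.mem_span_singleton.2 (map_dvd _ (dvd_of_mem i hdim G hG hGx ha' ((key ha').1 hh)))
    · rw [Ideal.span_le, Set.singleton_subset_iff, SetLike.mem_coe, RingHom.mem_ker]
      exact (key G.2).2 hGx
  · have hbot : i ⁻¹ᵁ PicPn.ch (k := k) l = ⊥ := le_bot_iff.1 fun x hx => (hl
      (((genericPoint_spec Y).mem_open_set_iff (i ⁻¹ᵁ PicPn.ch (k := k) l).2).2 ⟨x, trivial, hx⟩)).elim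
    haveI : Subsingleton Γ(Y, i ⁻¹ᵁ PicPn.ch (k := k) l) := by rw [hbot]; infer_instance
    have hXx : X l ∈ pr (gpt i) := by
      by_contra h
      exact hl ((ProjectiveSpectrum.mem_basicOpen _ _ _).2 h)
    rw [show RingHom.ker (i.app (PicPn.ch (k := k) l)).hom = ⊤ from
      eq_top_iff.2 fun a _ => Subsingleton.elim (α := Γ(Y, i ⁻¹ᵁ PicPn.ch (k := k) l)) _ _]
    obtain ⟨c, hc⟩ := dvd_of_mem i hdim G hG hGx (PicPn.X_mem l) hXx
    refine (Ideal.span_singleton_eq_top.2 (IsUnit.of_mul_eq_one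
      (GrT.deh (CohB1.polyGrading 2 k) (PicPn.X_mem l) c) ?_)).symm
    rw [← map_mul, ← hc, GrT.deh_self]

/-- The same as an isomorphism. -/
theorem exists_iso_hyp {d : ℕ} (G : LefPen.Form 2 k d) (hG : Irreducible G.1) (hGx : G.1 ∈ pr (gpt i)) :
    ∃ e : Y ≅ GenusOneTwist.Hyp G, e.hom ≫ (LefPen.hypIdeal G).subschemeι = i :=
  W7OnePole.exists_iso_of_ker i _ (ker_eq_hypIdeal i hdim G hG hGx)

end Groth.Agent.GenusZeroDesc
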