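import Groth.Agent.GenusOneTwist.BaseChange
import Groth.Agent.GenusZeroDesc.Forms

/-!
# Linear changes of coordinates
-/

set_option autoImplicit false
set_option linter.style.haveILetI false
set_option linter.unusedSectionVars false
set_option backward.isDefEq.respectTransparency false
set_option maxHeartbeats 1000000

universe u

open CategoryTheory CategoryTheory.Limits AlgebraicGeometry TopologicalSpace MvPolynomial
open scoped HomogeneousIdeal Matrix

noncomputable section

namespace Groth.Agent.GenusZeroDesc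

variable {K L : Type u} [Field K] [Field L] (φ : K →+* L) {n : ℕ} (M N : Matrix (Fin (n + 1)) (Fin (n + 1)) L)

/-- The linear form of a row. -/
def row (j : Fin (n + 1)) : MvPolynomial (Fin (n + 1)) L := ∑ i, C (M j i) * X i

theorem eval_row (j : Fin (n + 1)) (c : Fin (n + 1) → L) : eval c (row M j) = (M *ᵥ c) j := by
  simp [row, Matrix.mulVec, dotProduct]

theorem isHomogeneous_row (j : Fin (n + 1)) : (row M j).IsHomogeneous 1 :=
  IsHomogeneous.sum _ _ _ fun i _ => (isHomogeneous_X L i).C_mul _

/-- Extension of scalars followed by a linear substitution. -/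
def linHom : MvPolynomial (Fin (n + 1)) K →+* MvPolynomial (Fin (n + 1)) L :=
  MvPolynomial.eval₂Hom (MvPolynomial.C.comp φ) (row M)

theorem linHom_C (a : K) : linHom φ M (C a) = C (φ a) := by simp [linHom]

theorem linHom_X (j : Fin (n + 1)) : linHom φ M (X j) = row M j := by simp [linHom]

theorem eval_linHom (c : Fin (n + 1) → L) (A : MvPolynomial (Fin (n + 1)) K) :
    eval c (linHom φ M A) = eval₂ φ (M *ᵥ c) A := by
  have : (eval c).comp (linHom φ M) = eval₂Hom φ (M *ᵥ c) := MvPolynomial.ringHom_ext
    (fun a => by simp [linHom_C]) (fun j => by simp [linHom_X, eval_row])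
  exact RingHom.congr_fun this A

theorem linHom_mem {i : ℕ} {p : MvPolynomial (Fin (n + 1)) K} (hp : p ∈ CohB1.polyGrading n K i) :
    linHom φ M p ∈ CohB1.polyGrading n L i := by
  have := (MvPolynomial.mem_homogeneousSubmodule i p).1 hp
  refine (MvPolynomial.mem_homogeneousSubmodule i _).2 ?_
  simpa [linHom] using this.eval₂ (MvPolynomial.C.comp φ) (row M) (n := 1)
    (fun a => isHomogeneous_C _ _) (isHomogeneous_row M)

/-- The graded homomorphism. -/
def linGr : CohB1.polyGrading n K →+*ᵍ CohB1.polyGrading n L where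
  toRingHom := linHom φ M
  map_mem := linHom_mem φ M

variable {M N}

theorem aeval_row (hMN : M * N = 1) (j : Fin (n + 1)) :
    (aeval (row N) : MvPolynomial (Fin (n + 1)) L →ₐ[L] MvPolynomial (Fin (n + 1)) L) (row M j) = X j := by
  rw [show row M j = ∑ i, C (M j i) * X i from rfl, map_sum]
  have e : ∀ i, (aeval (row N) : MvPolynomial (Fin (n + 1)) L →ₐ[L] MvPolynomial (Fin (n + 1)) L) (C (M j i) * X i) =
      ∑ l, C (M j i * N i l) * X l := fun i => by
    rw [map_mul, aeval_C, aeval_X, MvPolynomial.algebraMap_eq, row, Finset.mul_sum]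
    exact Finset.sum_congr rfl fun l _ => by rw [map_mul, mul_assoc]
  rw [Finset.sum_congr rfl fun i _ => e i, Finset.sum_comm]
  simp only [← Finset.sum_mul, ← map_sum, ← Matrix.mul_apply, hMN, Matrix.one_apply]
  simp [apply_ite (C : L → MvPolynomial (Fin (n + 1)) L), ite_mul]

/-- The linear automorphism of the coordinate ring. -/
def linEquiv (hNM : N * M = 1) : MvPolynomial (Fin (n + 1)) L ≃ₐ[L] MvPolynomial (Fin (n + 1)) L :=
  AlgEquiv.ofAlgHom (aeval (row M)) (aeval (row N))
    (MvPolynomial.algHom_ext fun j => by rw [AlgHom.comp_apply, AlgHom.id_apply, aeval_X, aeval_row hNM])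
    (MvPolynomial.algHom_ext fun j => by
      rw [AlgHom.comp_apply, AlgHom.id_apply, aeval_X, aeval_row (mul_eq_one_comm.1 hNM)])

theorem linEquiv_apply (hNM : N * M = 1) (p : MvPolynomial (Fin (n + 1)) L) :
    linEquiv hNM p = linHom (RingHom.id L) M p := by
  show aeval (row M) p = _
  rw [linHom, RingHom.comp_id, ← MvPolynomial.algebraMap_eq]
  rfl

variable (hNM : N * M = 1)
include hNM

theorem irrelevant_le :
    HomogeneousIdeal.irrelevant (CohB1.polyGrading n L) ≤
      (HomogeneousIdeal.irrelevant (CohB1.polyGrading n K)).map (linGr φ M) := by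
  show (HomogeneousIdeal.irrelevant (CohB1.polyGrading n L)).toIdeal ≤ _
  refine (HomogeneousIdeal.toIdeal_irrelevant_le _).2 fun i hi x hx => ?_
  have h1 : x ∈ Ideal.span (MvPolynomial.X '' (Set.univ : Set (Fin (n + 1)))) := by
    rw [MvPolynomial.mem_ideal_span_X_image]
    intro m hm
    have hdeg := (MvPolynomial.mem_homogeneousSubmodule i x).1 hx (MvPolynomial.mem_support_iff.1 hm)
    by_contra hn
    push Not at hn
    have : m = 0 := Finsupp.ext fun j => hn j trivial
    subst this
    simp at hdeg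
    omega
  refine Ideal.span_le.2 ?_ h1
  rintro _ ⟨j, -, rfl⟩
  have e : (X j : MvPolynomial (Fin (n + 1)) L) = ∑ l, C (N j l) * linHom φ M (X l) := by
    have := aeval_row (M := N) (N := M) hNM j
    conv_lhs => rw [← this]
    simp [row, linHom_X, map_sum]
  show (X j : MvPolynomial (Fin (n + 1)) L) ∈ ((HomogeneousIdeal.irrelevant (CohB1.polyGrading n K)).map (linGr φ M)).toIdeal
  rw [e]
  exact Ideal.sum_mem _ fun l _ => Ideal.mul_mem_left _ _
    (Ideal.mem_map_of_mem _ (HomogeneousIdeal.mem_irrelevant_of_mem _ zero_lt_one (PicPn.X_mem l)))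

/-- The map of projective spaces. -/
def linProj : CohB1.ProjSpace n L ⟶ CohB1.ProjSpace n K :=
  Proj.map (linGr φ M) (irrelevant_le φ hNM)

theorem isPullback_linProj :
    IsPullback (linProj φ hNM) (CohB1.ProjSpace.toSpec n L) (CohB1.ProjSpace.toSpec n K)
      (Spec.map (CommRingCat.ofHom φ)) := by
  letI := φ.toAlgebra
  letI a0 : Algebra (MvPolynomial (Fin (n + 1)) K) (MvPolynomial (Fin (n + 1)) L) :=
    MvPolynomial.algebraMvPolynomial
  have hbase : Algebra.IsPushout K L (MvPolynomial (Fin (n + 1)) K) (MvPolynomial (Fin (n + 1)) L) :=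
    inferInstance
  let e := linEquiv hNM
  have hcomp : ∀ p, e (algebraMap (MvPolynomial (Fin (n + 1)) K) (MvPolynomial (Fin (n + 1)) L) p) =
      linHom φ M p := by
    intro p
    induction p using MvPolynomial.induction_on with
    | C a => simp [e, linEquiv_apply, linHom, RingHom.algebraMap_toAlgebra, MvPolynomial.algebraMap_apply]
    | add p q hp hq => simp only [map_add, hp, hq]
    | mul_X p j hp =>
      simp only [map_mul, hp]
      simp [e, linEquiv_apply, linHom, RingHom.algebraMap_toAlgebra]
  let f0 := (IsScalarTower.toAlgHom K (MvPolynomial (Fin (n + 1)) K) (MvPolynomial (Fin (n + 1)) L)).toLinearMap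
  have hf0 : IsBaseChange L f0 := hbase.out
  letI : Algebra (MvPolynomial (Fin (n + 1)) K) (MvPolynomial (Fin (n + 1)) L) := (linHom φ M).toAlgebra
  haveI : IsScalarTower K (MvPolynomial (Fin (n + 1)) K) (MvPolynomial (Fin (n + 1)) L) :=
    IsScalarTower.of_algebraMap_eq fun a => (linHom_C φ M a).symm
  haveI : Algebra.IsPushout K L (MvPolynomial (Fin (n + 1)) K) (MvPolynomial (Fin (n + 1)) L) :=
    ⟨IsBaseChange.of_equiv (hf0.equiv.trans e.toLinearEquiv) fun p => by
      show e (hf0.equiv ((1 : L) ⊗ₜ p)) = linHom φ M p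
      rw [hf0.equiv_tmul, one_smul]
      exact hcomp p⟩
  exact Groth.Agent.S3554.result (CohB1.polyGrading n K) (CohB1.polyGrading n L) (linGr φ M) (fun _ => rfl)
    (irrelevant_le φ hNM)

theorem mem_pr_linProj (y : CohB1.ProjSpace n L) {d : ℕ} {A : MvPolynomial (Fin (n + 1)) K}
    (hA : A ∈ CohB1.polyGrading n K d) : A ∈ pr (linProj φ hNM y) ↔ linHom φ M A ∈ pr (n := n) y :=
  Iff.rfl

omit φ in
theorem isIso_linProj_id : IsIso (linProj (RingHom.id L) hNM) := by
  have h := isPullback_linProj (RingHom.id L) hNM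
  have e : Spec.map (CommRingCat.ofHom (RingHom.id L)) = 𝟙 _ := Spec.map_id _
  rw [e] at h
  exact h.isIso_fst_of_isIso

end Groth.Agent.GenusZeroDesc
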