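import Groth.Agent.GenusOneTwist.Curve
import Groth.Agent.CompInt.Dim

/-!
# Diagonal conics are curves of genus zero
-/

set_option autoImplicit false
set_option linter.style.haveILetI false
set_option backward.isDefEq.respectTransparency false
set_option maxHeartbeats 1000000

universe u

open CategoryTheory CategoryTheory.Limits AlgebraicGeometry TopologicalSpace MvPolynomial
open Groth.Agent.GenusOneTwist

noncomputable section

namespace Groth.Agent.GenusZeroDesc

variable {K : Type u} [Field K]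

/-- The diagonal quadric. -/
def diag (w : Fin 3 → K) : MvPolynomial (Fin 3) K := ∑ i, C (w i) * X i ^ 2

theorem isHomogeneous_diag (w : Fin 3 → K) : (diag w).IsHomogeneous 2 :=
  IsHomogeneous.sum _ _ _ fun i _ => (isHomogeneous_X_pow i 2).C_mul _

theorem eval_diag (w x : Fin 3 → K) : eval x (diag w) = ∑ i, w i * x i ^ 2 := by simp [diag]

theorem diag_map {L : Type u} [Field L] (φ : K →+* L) (w : Fin 3 → K) :
    MvPolynomial.map φ (diag w) = diag (φ ∘ w) := by
  simp [diag]

/-- The diagonal quadric as a form. -/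
def df (w : Fin 3 → K) : LefPen.Form 2 K 2 :=
  ⟨diag w, (MvPolynomial.mem_homogeneousSubmodule 2 _).2 (isHomogeneous_diag w)⟩

theorem scaleForm_df {L : Type u} [Field L] (φ : K →+* L) (c : Fin 3 → L) (w : Fin 3 → K) :
    scaleForm (n := 2) φ c (df w) = df (fun i => φ (w i) * c i ^ 2) := by
  refine Subtype.ext ?_
  show scaleHom (n := 2) φ c (diag w) = diag (fun i => φ (w i) * c i ^ 2)
  rw [diag, diag]
  rw [map_sum]
  refine Finset.sum_congr rfl fun i _ => ?_
  rw [map_mul, map_pow, scaleHom_C, scaleHom_X, mul_pow, map_mul C, map_pow C, mul_assoc]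

theorem df_ne_zero {w : Fin 3 → K} (h : ∀ i, w i ≠ 0) : df w ≠ 0 := fun h0 => by
  have h1 := congrArg (fun F : LefPen.Form 2 K 2 => MvPolynomial.eval (Pi.single (0 : Fin 3) (1 : K)) F.1) h0
  have h2 : w 0 = 0 := by simpa [df, diag, Fin.sum_univ_three, Pi.single_apply] using h1
  exact h 0 h2

theorem smooth_chart {w : Fin 3 → K} (h : ∀ i, w i ≠ 0) (h2 : (2 : K) ≠ 0) (l : Fin 3) :
    Algebra.Smooth K (MvPolynomial {j : Fin 3 // j ≠ l} K ⧸ Ideal.span {dehPoly (K := K) l (diag w)}) := by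
  classical
  refine smooth_hypersurface _ (by_contra fun hne => ?_)
  obtain ⟨q, hq, hle⟩ := Ideal.exists_le_maximal _ hne
  let π := Ideal.Quotient.mk q
  have hg : π (dehPoly l (diag w)) = 0 :=
    Ideal.Quotient.eq_zero_iff_mem.2 (hle (Ideal.subset_span (Set.mem_insert _ _)))
  have hd : ∀ j : {j : Fin 3 // j ≠ l}, π (X j) = 0 := fun j => by
    have hj : π (pderiv j (dehPoly l (diag w))) = 0 :=
      Ideal.Quotient.eq_zero_iff_mem.2 (hle (Ideal.subset_span (Set.mem_insert_of_mem _ ⟨j, rfl⟩)))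
    have e : pderiv j (dehPoly (K := K) l (diag w)) = C (2 * w j.1) * X j := by
      simp only [diag, map_sum, map_mul, map_pow, dehPoly, aeval_C, aeval_X, MvPolynomial.algebraMap_eq]
      rw [Finset.sum_eq_single j.1 (fun i _ hij => ?_) (fun hh => absurd (Finset.mem_univ _) hh)]
      · rw [dif_neg j.2, pderiv_C_mul, pderiv_pow, pderiv_X_self, show (2 : ℕ) - 1 = 1 from rfl, pow_one,
          map_ofNat, Nat.cast_ofNat, mul_one, Subtype.coe_eta]
        exact (mul_left_comm _ _ _).trans (mul_assoc _ _ _).symm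
      · by_cases hi : i = l
        · rw [dif_pos hi, one_pow, mul_one, pderiv_C]
        · rw [dif_neg hi, pderiv_C_mul, pderiv_pow, pderiv_X_of_ne (fun e => hij (congrArg Subtype.val e)), mul_zero,
            mul_zero]
    rw [e, map_mul] at hj
    have hu : IsUnit (π (C (2 * w j.1))) := ((isUnit_iff_ne_zero.2 (mul_ne_zero h2 (h j.1))).map C).map π
    exact hu.mul_right_eq_zero.1 hj
  have e : π (dehPoly l (diag w)) = π (C (w l)) := by
    simp only [diag, map_sum, map_mul, map_pow]
    rw [Finset.sum_eq_single l (fun i _ hi => ?_) (fun hh => absurd (Finset.mem_univ _) hh)]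
    · rw [dehPoly_self, map_one, one_pow, mul_one]
      simp [dehPoly]
    · rw [show dehPoly (K := K) l (X i) = X (⟨i, hi⟩ : {j : Fin 3 // j ≠ l}) from dehPoly_X l ⟨i, hi⟩, hd]
      simp
  rw [e] at hg
  exact hq.ne_top (Ideal.eq_top_of_isUnit_mem _ (Ideal.Quotient.eq_zero_iff_mem.1 hg)
    ((isUnit_iff_ne_zero.2 (h l)).map C))

theorem smooth_str {w : Fin 3 → K} (h : ∀ i, w i ≠ 0) (h2 : (2 : K) ≠ 0) : Smooth (str (df w)) :=
  isSmooth_of_chart _ fun l => smooth_chart h h2 l

theorem isProper_str (G : LefPen.Form 2 K 2) : IsProper (str G) := by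
  haveI := ProjMor.isProper_toSpec (n := 2) (R := K)
  exact inferInstanceAs (IsProper ((LefPen.hypIdeal G).subschemeι ≫ CohB1.ProjSpace.toSpec 2 K))

/-- Over an algebraically closed field. -/
theorem curve_algClosed [IsAlgClosed K] {w : Fin 3 → K} (h : ∀ i, w i ≠ 0) (h2 : (2 : K) ≠ 0) :
    IsIntegral (Hyp (df w)) ∧ topologicalKrullDim (Hyp (df w)) = 1 ∧
      (letI : (Hyp (df w)).Over (Spec (CommRingCat.of K)) := ⟨str (df w)⟩
       Curv2.genus K (Hyp (df w)) = 0) := by
  letI : (Hyp (df w)).Over (Spec (CommRingCat.of K)) := ⟨str (df w)⟩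
  haveI : IsProper (Hyp (df w) ↘ Spec (CommRingCat.of K)) := isProper_str _
  haveI : Smooth (Hyp (df w) ↘ Spec (CommRingCat.of K)) := smooth_str h h2
  haveI : ConnectedSpace (Hyp (df w)) :=
    (Groth.Agent.S7840.result K 2 (by norm_num) (df w) (df_ne_zero h) rfl).2.1
  have hi : IsIntegral (Hyp (df w)) := CurveRR.Easy.isIntegral_of_smooth (k := K)
  have hg : Curv2.genus K (Hyp (df w)) = 0 :=
    ((Groth.Agent.S7840.result K 2 (by norm_num) (df w) (df_ne_zero h) rfl).2.2).trans (by norm_num)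
  refine ⟨hi, le_antisymm (topologicalKrullDim_le_one _ (df_ne_zero h)) ?_, hg⟩
  have h1 := CompInt.le_dim_hyp (k := K) (d := 2) (n := 2) (by norm_num) (by norm_num) (df w)
  rw [← CompInt.topDim_subscheme] at h1
  revert h1
  generalize topologicalKrullDim (LefPen.hypIdeal (df w)).subscheme = D
  intro h1
  cases D with
  | bot => simp at h1
  | coe D =>
    cases D with
    | top => exact le_top
    | coe D =>
      norm_cast at h1 ⊢
      have h3 : 2 ≤ D + 1 := by exact_mod_cast h1
      exact_mod_cast (show 1 ≤ D by omega)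

theorem geometricallyIrreducible_str {w : Fin 3 → K} (h : ∀ i, w i ≠ 0) (h2 : (2 : K) ≠ 0) :
    GeometricallyIrreducible (str (df w)) := by
  refine ⟨fun L _ y Y fst snd H => ?_⟩
  have hy : Spec.map (Spec.preimage y) = y := Spec.map_preimage y
  let φ : K →+* AlgebraicClosure L :=
    (algebraMap L (AlgebraicClosure L)).comp (Spec.preimage y).hom
  obtain ⟨q, hq⟩ := exists_isPullback (n := 2) φ (fun _ => 1) (fun _ => one_ne_zero) (df w)
  haveI : IsIntegral (Hyp (scaleForm (n := 2) φ (fun _ => 1) (df w))) := by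
    rw [scaleForm_df]
    exact (curve_algClosed (fun i => mul_ne_zero ((map_ne_zero φ).2 (h i)) (pow_ne_zero _ one_ne_zero))
      (by rw [← map_ofNat φ 2]; exact (map_ne_zero φ).2 h2)).1
  have hφ : Spec.map (CommRingCat.ofHom φ) =
      Spec.map (CommRingCat.ofHom (algebraMap L (AlgebraicClosure L))) ≫ y := by
    rw [← hy, ← Spec.map_comp]
    rfl
  rw [hφ] at hq
  let r : Hyp (scaleForm (n := 2) φ (fun _ => 1) (df w)) ⟶ Y :=
    H.lift q (str _ ≫ Spec.map (CommRingCat.ofHom (algebraMap L (AlgebraicClosure L))))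
      (by rw [hq.w]; simp only [Category.assoc])
  have hr : IsPullback r (str _) snd (Spec.map (CommRingCat.ofHom (algebraMap L (AlgebraicClosure L)))) :=
    IsPullback.of_right (by rw [H.lift_fst]; exact hq) (H.lift_snd _ _ _) H
  haveI : Surjective (Spec.map (CommRingCat.ofHom (algebraMap L (AlgebraicClosure L)))) :=
    ⟨fun _ => ⟨IsLocalRing.closedPoint _, Subsingleton.elim _ _⟩⟩
  haveI : Surjective r := MorphismProperty.of_isPullback (P := @Surjective) hr.flip inferInstance
  exact r.surjective.irreducibleSpace r.continuous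

theorem isCurveOfGenus {w : Fin 3 → K} (h : ∀ i, w i ≠ 0) (h2 : (2 : K) ≠ 0) :
    ModFun.IsCurveOfGenus 0 (str (df w)) := by
  refine ⟨smooth_str h h2, isProper_str _, geometricallyIrreducible_str h h2, fun Ω _ _ t X i q H => ?_⟩
  have ht : Spec.map (Spec.preimage t) = t := Spec.map_preimage t
  let φ : K →+* Ω := (Spec.preimage t).hom
  have hh := exists_isPullback (n := 2) φ (fun _ => 1) (fun _ => one_ne_zero) (df w)
  have hφ : Spec.map (CommRingCat.ofHom φ) = t := ht
  rw [hφ, scaleForm_df] at hh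
  obtain ⟨p, hp⟩ := hh
  have hG : ∀ j : Fin 3, φ (w j) * (1 : Ω) ^ 2 ≠ 0 :=
    fun j => mul_ne_zero ((map_ne_zero φ).2 (h j)) (pow_ne_zero _ one_ne_zero)
  have hG2 : (2 : Ω) ≠ 0 := by rw [← map_ofNat φ 2]; exact (map_ne_zero φ).2 h2
  obtain ⟨-, hd, hg⟩ := curve_algClosed hG hG2
  let G' := df (fun j : Fin 3 => φ (w j) * 1 ^ 2)
  let E : X ≅ Hyp G' := H.isoIsPullback _ _ hp
  refine ⟨(IsHomeomorph.topologicalKrullDim_eq _ E.hom.homeomorph.isHomeomorph).trans hd, ?_⟩
  letI : X.Over (Spec (CommRingCat.of Ω)) := ⟨q⟩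
  letI : (Hyp G').Over (Spec (CommRingCat.of Ω)) := ⟨str _⟩
  haveI : IsProper (Hyp G' ↘ Spec (CommRingCat.of Ω)) := isProper_str _
  have sq : IsPullback E.hom (X ↘ Spec (CommRingCat.of Ω)) (Hyp G' ↘ Spec (CommRingCat.of Ω))
      (Spec.map (CommRingCat.ofHom (algebraMap Ω Ω))) := by
    have hid : Spec.map (CommRingCat.ofHom (algebraMap Ω Ω)) = 𝟙 _ := by
      rw [show CommRingCat.ofHom (algebraMap Ω Ω) = 𝟙 _ from rfl, Spec.map_id]
    haveI : IsIso (Spec.map (CommRingCat.ofHom (algebraMap Ω Ω))) := hid ▸ inferInstance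
    refine IsPullback.of_horiz_isIso ⟨?_⟩
    rw [hid, Category.comp_id]
    exact H.isoIsPullback_hom_snd _ _ hp
  exact (Groth.Agent.S0223.result Ω (Hyp G') hd
    ((Groth.Agent.S7840.result Ω 2 (by norm_num) G' (df_ne_zero hG) rfl).1) Ω X E.hom sq).2.trans hg

end Groth.Agent.GenusZeroDesc
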