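import Groth.Agent.GenusZeroDesc.RatPoint
import Groth.Agent.GenusZeroDesc.ConicFamily
import Groth.Agent.DualGeneric.GenusZeroPt
import Groth.Agent.CurveOmega.General
import Groth.Agent.W7Cover.GeomConn
import Groth.Agent.W7Slope.Hom
import Groth.Agent.S7840
import Groth.Agent.S1636
import Groth.Prelude.Def_ModFun
import Mathlib.LinearAlgebra.QuadraticForm.IsometryEquiv

/-!
# Curves of genus zero over a field: the line or a diagonal conic
-/

set_option autoImplicit false
set_option linter.style.haveILetI false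
set_option backward.isDefEq.respectTransparency false
set_option backward.isDefEq.respectTransparency.types false
set_option maxHeartbeats 1000000

universe u

open CategoryTheory CategoryTheory.Limits AlgebraicGeometry TopologicalSpace MvPolynomial

noncomputable section

namespace Groth.Agent.GenusZeroDesc

variable {L : Type u} [Field L] {Z : Scheme.{u}} {f : Z ⟶ Spec (CommRingCat.of L)}

/-- The facts used about a curve of genus zero. -/
structure Facts (f : Z ⟶ Spec (CommRingCat.of L)) : Prop where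
  proper : IsProper f
  smooth : Smooth f
  conn : GeometricallyConnected f
  dim : topologicalKrullDim Z = 1
  int : IsIntegral Z
  h0 : letI : Z.Over (Spec (CommRingCat.of L)) := ⟨f⟩
    CurveRR.h L (Coh.structureModule Z) 0 = 1
  genus : letI : Z.Over (Spec (CommRingCat.of L)) := ⟨f⟩
    Curv2.genus L Z = 0

theorem facts (h : ModFun.IsCurveOfGenus 0 f) : Facts f := by
  obtain ⟨hs, hp, hgi, hgeo⟩ := h
  letI : Z.Over (Spec (CommRingCat.of L)) := ⟨f⟩
  haveI : IsProper (Z ↘ Spec (CommRingCat.of L)) := hp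
  haveI : Smooth (Z ↘ Spec (CommRingCat.of L)) := hs
  haveI : GeometricallyIrreducible f := hgi
  haveI hc : GeometricallyConnected (Z ↘ Spec (CommRingCat.of L)) :=
    show GeometricallyConnected f from
      ⟨fun K _ y Y fst snd H => by
        haveI := GeometricallyIrreducible.geometrically_irreducibleSpace (f := f) y fst snd H
        infer_instance⟩
  have hb := CurveOmega.isPullback_bar L Z
  obtain ⟨hd, hg⟩ := hgeo (AlgebraicClosure L) _ _ _ _ hb
  have hdim : topologicalKrullDim Z = 1 := by
    haveI : Surjective (Spec.map (CommRingCat.ofHom (algebraMap L (AlgebraicClosure L)))) :=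
      ⟨fun _ => ⟨IsLocalRing.closedPoint _, Subsingleton.elim _ _⟩⟩
    haveI : Surjective (CurveOmega.barFst L Z) :=
      MorphismProperty.of_isPullback (P := @Surjective) hb.flip inferInstance
    haveI : Smooth (CurveOmega.bar L Z ↘ Spec (CommRingCat.of (AlgebraicClosure L))) :=
      MorphismProperty.of_isPullback (P := @Smooth) hb ‹_›
    rw [← hd, Groth.Agent.S5792.result, Groth.Agent.S5792.result (CurveOmega.bar L Z)]
    refine le_antisymm (iSup_le fun x => ?_) (iSup_le fun z => ?_)
    · obtain ⟨z, rfl⟩ := (CurveOmega.barFst L Z).surjective x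
      rw [← LocalDimBC.localDim_of_isPullback (Z ↘ Spec (CommRingCat.of L)) _ (CurveOmega.barFst L Z) _ hb z]
      exact le_iSup (fun z : ↥(CurveOmega.bar L Z) => FlatMor.localDim (CurveOmega.bar L Z) z) _
    · rw [LocalDimBC.localDim_of_isPullback (Z ↘ Spec (CommRingCat.of L)) _ (CurveOmega.barFst L Z) _ hb z]
      exact le_iSup (fun x : Z => FlatMor.localDim Z x) _
  refine ⟨hp, hs, hc, hdim, W7Slope.isIntegral_of_geomConn (k := L) hdim, W7Cover.h0_of_geometricallyConnected, ?_⟩
  rw [← CurveOmega.genus_bar L Z]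
  exact hg

/-- The line, given a rational point. -/
theorem exists_iso_P1 (h : ModFun.IsCurveOfGenus 0 f) (s : Spec (CommRingCat.of L) ⟶ Z) (hs : s ≫ f = 𝟙 _) :
    ∃ e : Z ≅ CohB1.ProjSpace 1 L, e.hom ≫ CohB1.ProjSpace.toSpec 1 L = f := by
  obtain ⟨hp, hsm, -, hdim, hint, -, hg⟩ := facts h
  letI : Z.Over (Spec (CommRingCat.of L)) := ⟨f⟩
  haveI := hint
  haveI : IsProper (Z ↘ Spec (CommRingCat.of L)) := hp
  haveI : Smooth ((⊤ : Z.Opens).ι ≫ (Z ↘ Spec (CommRingCat.of L))) := by
    haveI : Smooth f := hsm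
    exact inferInstanceAs (Smooth ((⊤ : Z.Opens).ι ≫ f))
  exact DualGeneric.exists_iso_of_ratPoint L hdim hg s hs ⊤ trivial

/-- Evaluation of a quadratic form. -/
theorem exists_quadraticForm (q : MvPolynomial (Fin 3) L) (hq : q.IsHomogeneous 2) :
    ∃ Q : QuadraticForm L (Fin 3 → L), ∀ x, Q x = eval x q := by
  classical
  have hsum : ∀ m ∈ q.support, ∃ Q : QuadraticForm L (Fin 3 → L), ∀ x, Q x = eval x (monomial m (coeff m q)) := by
    intro m hm
    have hdeg : m.degree = 2 := by
      have := hq (mem_support_iff.1 hm)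
      rw [Finsupp.degree_eq_weight_one]; exact this
    obtain ⟨a, ha⟩ : ∃ a, m a ≠ 0 := by
      by_contra! h
      rw [show m = 0 from Finsupp.ext h] at hdeg
      simp at hdeg
    obtain ⟨b, hb⟩ : ∃ b, m = Finsupp.single a 1 + Finsupp.single b 1 := by
      have e : Finsupp.single a 1 + (m - Finsupp.single a 1) = m :=
        add_tsub_cancel_of_le (Finsupp.single_le_iff.2 (Nat.one_le_iff_ne_zero.2 ha))
      have h1 : (m - Finsupp.single a 1).degree = 1 := by
        have := congrArg Finsupp.degree e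
        rw [map_add, Finsupp.degree_single, hdeg] at this
        omega
      obtain ⟨b, hb⟩ := (Finsupp.sum_eq_one_iff (m - Finsupp.single a 1)).1 h1
      exact ⟨b, by rw [← hb, e]⟩
    refine ⟨coeff m q • QuadraticMap.linMulLin (LinearMap.proj a) (LinearMap.proj b), fun x => ?_⟩
    generalize coeff m q = r
    rw [QuadraticMap.smul_apply, QuadraticMap.linMulLin_apply, hb, smul_eq_mul]
    have e2 : monomial (Finsupp.single a 1 + Finsupp.single b 1) r = C r * (X a * X b) := by
      rw [X, X, monomial_mul, C_mul_monomial, one_mul, mul_one]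
    rw [e2]
    simp
  choose! Q hQ using hsum
  refine ⟨∑ m ∈ q.support, Q m, fun x => ?_⟩
  conv_rhs => rw [q.as_sum, map_sum]
  rw [QuadraticMap.sum_apply]
  exact Finset.sum_congr rfl fun m hm => hQ m hm x

/-- A quadratic form with no zero is diagonal in suitable coordinates. -/
theorem exists_diag [CharZero L] (q : MvPolynomial (Fin 3) L) (hq : q.IsHomogeneous 2)
    (hne : ∀ x : Fin 3 → L, x ≠ 0 → eval x q ≠ 0) :
    ∃ (w : Fin 3 → L) (M N : Matrix (Fin 3) (Fin 3) L) (_ : N * M = 1), (∀ i, w i ≠ 0) ∧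
      linHom (n := 2) (RingHom.id L) M (diag w) = q := by
  classical
  haveI : Invertible (2 : L) := invertibleOfNonzero two_ne_zero
  obtain ⟨Q, hQ⟩ := exists_quadraticForm q hq
  obtain ⟨w, ⟨E⟩⟩ := QuadraticForm.equivalent_weightedSumSquares Q
  have h3 : Module.finrank L (Fin 3 → L) = 3 := Module.finrank_fin_fun L
  let e : (Fin 3 → L) ≃ₗ[L] (Fin 3 → L) := E.toLinearEquiv.trans (LinearEquiv.funCongrLeft L L (finCongr h3).symm)
  let w' : Fin 3 → L := fun i => w ((finCongr h3).symm i)
  have hMN : (LinearMap.toMatrix' e.symm.toLinearMap) * LinearMap.toMatrix' e.toLinearMap = 1 := by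
    rw [← LinearMap.toMatrix'_comp, LinearEquiv.comp_coe, LinearEquiv.self_trans_symm]
    exact LinearMap.toMatrix'_id
  have heval : ∀ x, eval x q = ∑ i, w' i * e x i ^ 2 := by
    intro x
    rw [← hQ, ← E.map_app x, QuadraticMap.weightedSumSquares_apply]
    refine (Fintype.sum_equiv (finCongr h3) _ _ fun j => ?_)
    show w j • ((E x) j * (E x) j) = w ((finCongr h3).symm (finCongr h3 j)) * (E x) ((finCongr h3).symm (finCongr h3 j)) ^ 2
    rw [Equiv.symm_apply_apply, smul_eq_mul, sq]
  refine ⟨w', _, _, hMN, fun i h0 => ?_, MvPolynomial.funext fun x => ?_⟩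
  · refine hne (e.symm (Pi.single i 1)) (fun h => ?_) ?_
    · have := congrArg e h
      simp at this
    · rw [heval]
      refine Finset.sum_eq_zero fun j _ => ?_
      rw [LinearEquiv.apply_symm_apply]
      by_cases hj : j = i
      · subst hj; rw [h0, zero_mul]
      · simp [Pi.single_eq_of_ne hj]
  · rw [eval_linHom, LinearMap.toMatrix'_mulVec, heval, eval₂_id, eval_diag]
    rfl

/-- Without a rational point: a diagonal conic. -/
theorem exists_conic [CharZero L] (h : ModFun.IsCurveOfGenus 0 f)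
    (hno : ¬ ∃ s : Spec (CommRingCat.of L) ⟶ Z, s ≫ f = 𝟙 _) :
    ∃ (w : Fin 3 → L), w 0 = 1 ∧ (∀ i, w i ≠ 0) ∧
      ∃ e : Z ≅ GenusOneTwist.Hyp (df w), e.hom ≫ GenusOneTwist.str (df w) = f := by
  obtain ⟨hp, hsm, hconn, hdim, hint, h0, hg⟩ := facts h
  letI : Z.Over (Spec (CommRingCat.of L)) := ⟨f⟩
  haveI := hint
  haveI : IsProper (Z ↘ Spec (CommRingCat.of L)) := hp
  haveI : Smooth (Z ↘ Spec (CommRingCat.of L)) := hsm
  obtain ⟨-, -, hω⟩ := CurveOmega.omega_facts' L Z hdim h0
  have hI := CurveOmega.isInvertible_omega L Z hdim h0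
  obtain ⟨Li, hLi, hdeg⟩ := DualGeneric.exists_deg_zsmul (X := Z) L hdim.le hI (-1)
  rw [hω, hg] at hdeg
  obtain ⟨i, hi, hik, -⟩ := Groth.Agent.S1636.result L Z hdim h0 hg Li hLi 2 two_pos (by rw [hdeg]; norm_num)
  haveI : IsClosedImmersion i := hi
  obtain ⟨d, G, hd, hG, hGx⟩ := exists_irreducible (k := L) i hdim
  obtain ⟨e, he⟩ := exists_iso_hyp (k := L) i hdim G hG hGx
  -- no zero
  have hzero : ∀ x : Fin 3 → L, x ≠ 0 → eval x G.1 ≠ 0 := by
    intro x hx hev
    obtain ⟨l, hl⟩ : ∃ l, x l ≠ 0 := by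
      by_contra! h'
      exact hx (funext h')
    have hev' : eval ((x l)⁻¹ • x) G.1 = 0 := by
      have hG' := (MvPolynomial.mem_homogeneousSubmodule d G.1).1 G.2
      have h2 : eval ((x l)⁻¹ • x) G.1 = ((x l)⁻¹) ^ d * eval x G.1 := by
        rw [eval_eq, eval_eq, Finset.mul_sum]
        refine Finset.sum_congr rfl fun m hm => ?_
        have hdeg : ∑ i ∈ m.support, m i = d := hG'.degree_eq_sum_deg_support hm ▸ rfl
        simp only [Pi.smul_apply, smul_eq_mul, mul_pow, Finset.prod_mul_distrib, Finset.prod_pow_eq_pow_sum, hdeg]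
        ring
      rw [h2, hev, mul_zero]
    obtain ⟨s, hs⟩ := GenusOneTwist.exists_section_of_zero G l ((x l)⁻¹ • x) (by simp [hl]) hev'
    refine hno ⟨s ≫ e.inv, ?_⟩
    rw [Category.assoc, show e.inv ≫ f = GenusOneTwist.str G by
      rw [Iso.inv_comp_eq, GenusOneTwist.str, ← Category.assoc, he]; exact hik.symm, hs]
  -- the degree is two
  letI : (GenusOneTwist.Hyp G).Over (Spec (CommRingCat.of L)) := ⟨GenusOneTwist.str G⟩
  have hgen := (Groth.Agent.S7840.result L d hd G (fun h0' => hG.ne_zero (by rw [h0']; rfl)) rfl).2.2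
  have hover : e.hom ≫ (GenusOneTwist.Hyp G ↘ Spec (CommRingCat.of L)) = Z ↘ Spec (CommRingCat.of L) := by
    show e.hom ≫ (LefPen.hypIdeal G).subschemeι ≫ _ = f
    rw [← Category.assoc, he]
    exact hik
  haveI : IsProper (GenusOneTwist.Hyp G ↘ Spec (CommRingCat.of L)) := by
    haveI := ProjMor.isProper_toSpec (n := 2) (R := L)
    exact inferInstanceAs (IsProper ((LefPen.hypIdeal G).subschemeι ≫ CohB1.ProjSpace.toSpec 2 L))
  haveI : IsAffineHom e.hom := inferInstance
  have hd2 : d = 2 := by
    have sq : IsPullback e.hom (Z ↘ Spec (CommRingCat.of L)) (GenusOneTwist.Hyp G ↘ Spec (CommRingCat.of L))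
        (Spec.map (CommRingCat.ofHom (algebraMap L L))) := by
      have hid : Spec.map (CommRingCat.ofHom (algebraMap L L)) = 𝟙 _ := by
        rw [show CommRingCat.ofHom (algebraMap L L) = 𝟙 _ from rfl, Spec.map_id]
      haveI : IsIso (Spec.map (CommRingCat.ofHom (algebraMap L L))) := hid ▸ inferInstance
      exact IsPullback.of_horiz_isIso ⟨by rw [hid, Category.comp_id]; exact hover⟩
    have hdimH : topologicalKrullDim (GenusOneTwist.Hyp G) = 1 :=
      (IsHomeomorph.topologicalKrullDim_eq _ e.hom.homeomorph.isHomeomorph).symm.trans hdim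
    have hgd : (d - 1) * (d - 2) / 2 = 0 := by
      rw [← hgen, ← hg]
      exact (Groth.Agent.S0223.result L (GenusOneTwist.Hyp G) hdimH
        ((Groth.Agent.S7840.result L d hd G (fun h0' => hG.ne_zero (by rw [h0']; rfl)) rfl).1) L Z e.hom sq).2.symm
    by_contra hne
    rcases lt_or_gt_of_ne hne with hlt | hgt
    · obtain rfl : d = 1 := by omega
      -- a linear form has a zero
      let φ : (Fin 3 → L) →ₗ[L] L := ∑ j, (coeff (Finsupp.single j 1) G.1) • LinearMap.proj j
      have hφ : ∀ x, eval x G.1 = φ x := by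
        intro x
        have hG' := (MvPolynomial.mem_homogeneousSubmodule 1 G.1).1 G.2
        have hrep : G.1 = ∑ j, monomial (Finsupp.single j 1) (coeff (Finsupp.single j 1) G.1) := by
          classical
          ext m
          rw [coeff_sum]
          simp only [coeff_monomial]
          by_cases hm : m.degree = 1
          · obtain ⟨j, rfl⟩ := (Finsupp.sum_eq_one_iff m).1 hm
            simp [Finsupp.single_left_inj, Finset.sum_ite_eq']
          · rw [hG'.coeff_eq_zero hm, Finset.sum_eq_zero]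
            intro j _
            rw [if_neg]
            rintro rfl
            simp at hm
        conv_lhs => rw [hrep]
        simp [φ, eval_monomial]
      obtain ⟨x, hx, hx0⟩ : ∃ x ∈ LinearMap.ker φ, x ≠ 0 := by
        refine Submodule.exists_mem_ne_zero_of_ne_bot fun hb => ?_
        have := LinearMap.finrank_le_finrank_of_injective (LinearMap.ker_eq_bot.1 hb)
        simp at this
      exact hzero x hx0 ((hφ x).trans hx)
    · have h1 : 2 ≤ d - 1 := by omega
      have h2 : 1 ≤ d - 2 := by omega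
      have h3 : 2 ≤ (d - 1) * (d - 2) := le_trans (by norm_num) (Nat.mul_le_mul h1 h2)
      omega
  subst hd2
  obtain ⟨w, M, N, hNM, hw, hlin⟩ := exists_diag G.1 ((MvPolynomial.mem_homogeneousSubmodule 2 G.1).1 G.2) hzero
  let T := linProj (n := 2) (RingHom.id L) hNM
  haveI : IsIso T := isIso_linProj_id hNM
  let i' := i ≫ T
  let w' : Fin 3 → L := fun j => (w 0)⁻¹ * w j
  have hD : (df w').1 = C ((w 0)⁻¹) * diag w := by
    show diag w' = _
    simp only [diag, w', map_mul, Finset.mul_sum, mul_assoc]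
  have hirr0 : Irreducible (diag w) := by
    rw [← MulEquiv.irreducible_iff (linEquiv (n := 2) hNM).toMulEquiv]
    show Irreducible (linEquiv (n := 2) hNM (diag w))
    rw [linEquiv_apply, hlin]
    exact hG
  have hirr : Irreducible (df w').1 := by
    rw [hD]
    exact (irreducible_isUnit_mul ((isUnit_iff_ne_zero.2 (inv_ne_zero (hw 0))).map C)).2 hirr0
  have hx' : (df w').1 ∈ pr (gpt i') := by
    rw [hD]
    refine Ideal.mul_mem_left _ _ ?_
    show diag w ∈ pr (T (gpt i))
    rw [mem_pr_linProj (RingHom.id L) hNM _ ((MvPolynomial.mem_homogeneousSubmodule 2 _).2 (isHomogeneous_diag w)),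
      hlin]
    exact hGx
  obtain ⟨e', he'⟩ := exists_iso_hyp (k := L) i' hdim (df w') hirr hx'
  refine ⟨w', inv_mul_cancel₀ (hw 0), fun j => mul_ne_zero (inv_ne_zero (hw 0)) (hw j), e', ?_⟩
  rw [GenusOneTwist.str, ← Category.assoc, he']
  show (i ≫ T) ≫ CohB1.ProjSpace.toSpec 2 L = f
  have hT := (isPullback_linProj (n := 2) (RingHom.id L) hNM).w
  have hid : Spec.map (CommRingCat.ofHom (RingHom.id L)) = 𝟙 _ := Spec.map_id _
  rw [hid, Category.comp_id] at hT
  rw [Category.assoc, hT]
  exact hik

end Groth.Agent.GenusZeroDesc
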