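import Groth.Agent.GenusZeroDesc.Family
import Mathlib.RingTheory.AlgebraicIndependent.TranscendenceBasis

/-!
# Bounds on the essential dimension of stacks of pointed curves of genus zero
-/

set_option autoImplicit false
set_option linter.style.haveILetI false
set_option backward.isDefEq.respectTransparency false
set_option backward.isDefEq.respectTransparency.types false
set_option maxHeartbeats 1000000

universe u

open CategoryTheory CategoryTheory.Limits AlgebraicGeometry TopologicalSpace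

noncomputable section

namespace Groth.Agent.GenusZeroDesc

variable {k : Type u} [Field k] [CharZero k] {n : ℕ}
  [FibCat.IsFibGrpd (CurvSt.Mgn (Spec (CommRingCat.of k)) 0 n).p]

/-- The stack is not empty. -/
theorem zero_le_edSt (hn : n ≤ 2) :
    (0 : WithBot ℕ∞) ≤ EssDim.edSt (CurvSt.Mgn (Spec (CommRingCat.of k)) 0 n) := by
  obtain ⟨A, hA, -, hsm, -, -⟩ := exists_std k k n hn
  let x : StkCnt.pts (CurvSt.Mgn (Spec (CommRingCat.of k)) 0 n) k := ⟨⟨A, hsm⟩, hA⟩
  refine le_trans ?_ (EssDim.edAt_le_ed (P := Gerb.isoClPsh (CurvSt.Mgn (Spec (CommRingCat.of k)) 0 n)) (L := k)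
    (Quot.mk _ x))
  exact WithBot.coe_le_coe.2 (zero_le)

/-- A bound by descent of the objects. -/
theorem edSt_le {d : ℕ}
    (h : ∀ (L : Type u) [Field L] [Algebra k L] (C : Scheme.{u}) (f : C ⟶ Spec (CommRingCat.of L))
      (σ : Fin n → (Spec (CommRingCat.of L) ⟶ C)) (hσ : ∀ i, σ i ≫ f = 𝟙 _),
      CurvSt.IsSmoothPtdFam (T := Spec (CommRingCat.of L)) f σ 0 →
      ∃ K : IntermediateField k L, Cardinal.toENat (Algebra.trdeg k K) ≤ (d : ℕ∞) ∧
        ∃ (B : CurvSt.PtFamObj (Spec (CommRingCat.of k)) n) (_ : B.base = SGA7.pt (K := k) K)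
          (_ : CurvSt.IsSmoothPtdFam B.f B.sect 0)
          (ψ : (⟨SGA7.pt (K := k) L, C, f, σ, hσ⟩ : CurvSt.PtFamObj (Spec (CommRingCat.of k)) n) ⟶ B),
          HEq ψ.base (EssDim.resPt K.val)) :
    EssDim.edSt (CurvSt.Mgn (Spec (CommRingCat.of k)) 0 n) ≤ ((d : ℕ) : WithBot ℕ∞) := by
  refine iSup_le fun L => iSup_le fun hF => iSup_le fun hAlg => iSup_le fun ξ => ?_
  induction ξ using Quot.ind with
  | mk x =>
    obtain ⟨⟨⟨b, C, f, σ, hσ⟩, hA⟩, hb⟩ := x
    change b = SGA7.pt (K := k) L at hb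
    subst hb
    obtain ⟨K, hK, B, hBb, hB, ψ, hψ⟩ := h L C f σ hσ hA
    refine le_trans (WithBot.coe_le_coe.2 ((EssDim.edAt_le_of_descends
      ((EssDim.descends_isoCl_iff (CurvSt.Mgn (Spec (CommRingCat.of k)) 0 n) ⟨⟨⟨SGA7.pt (K := k) L, C, f, σ, hσ⟩, hA⟩, rfl⟩ K).2 ⟨(⟨⟨B, hB⟩, hBb⟩ : StkCnt.pts (CurvSt.Mgn (Spec (CommRingCat.of k)) 0 n) K), ObjectProperty.homMk ψ, ?_⟩)).trans hK)) ?_
    · obtain ⟨b', C', f', σ', hσ'⟩ := B
      change b' = SGA7.pt (K := k) K at hBb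
      subst hBb
      have e : ψ.base = EssDim.resPt K.val := eq_of_heq hψ
      rw [← e]
      let φ : (⟨_, hA⟩ : (CurvSt.Mgn (Spec (CommRingCat.of k)) 0 n).obj) ⟶ ⟨_, hB⟩ := ObjectProperty.homMk ψ
      exact IsHomLift.map (CurvSt.Mgn (Spec (CommRingCat.of k)) 0 n).p φ
    · exact le_of_eq rfl

omit [FibCat.IsFibGrpd (CurvSt.Mgn (Spec (CommRingCat.of k)) 0 n).p] in
omit [CharZero k] in
theorem toENat_trdeg_bot (L : Type u) [Field L] [Algebra k L] :
    Cardinal.toENat (Algebra.trdeg k (⊥ : IntermediateField k L)) = 0 := by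
  haveI : Algebra.IsAlgebraic k (⊥ : IntermediateField k L) := Algebra.IsAlgebraic.of_finite k _
  rw [trdeg_eq_zero]
  exact map_zero _

end Groth.Agent.GenusZeroDesc
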