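import Groth.Agent.GenusZeroDesc.Classify
import Groth.Prelude.Def_StCurv
import Groth.Prelude.Def_EssDim

/-!
# Descending pointed curves of genus zero
-/

set_option autoImplicit false
set_option linter.style.haveILetI false
set_option backward.isDefEq.respectTransparency false
set_option backward.isDefEq.respectTransparency.types false
set_option maxHeartbeats 1000000

universe u

open CategoryTheory CategoryTheory.Limits AlgebraicGeometry TopologicalSpace

noncomputable section

namespace Groth.Agent.GenusZeroDesc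

/-- Being a curve of genus zero passes along isomorphisms. -/
theorem isCurveOfGenus_of_iso {T C C' : Scheme.{u}} {f : C ⟶ T} {f' : C' ⟶ T} {g : ℕ} (e : C ≅ C')
    (he : e.hom ≫ f' = f) (h : ModFun.IsCurveOfGenus g f) : ModFun.IsCurveOfGenus g f' := by
  obtain ⟨hs, hp, hgi, hgeo⟩ := h
  have sq : IsPullback e.inv f' f (𝟙 T) :=
    IsPullback.of_horiz_isIso ⟨by rw [Category.comp_id, Iso.inv_comp_eq, he]⟩
  refine ⟨MorphismProperty.of_isPullback (P := @Smooth) sq hs, MorphismProperty.of_isPullback (P := @IsProper) sq hp,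
    MorphismProperty.of_isPullback (P := @GeometricallyIrreducible) sq hgi, fun Ω _ _ t X i q H => ?_⟩
  have H2 : IsPullback (i ≫ e.inv) q f (t ≫ 𝟙 T) := H.paste_horiz sq
  rw [Category.comp_id] at H2
  exact hgeo Ω t X _ q H2

variable {k : Type u} [Field k] [CharZero k]

theorem two_ne {K : Type u} [Field K] [Algebra k K] : (2 : K) ≠ 0 := by
  haveI := charZero_of_injective_algebraMap (R := k) (A := K) (algebraMap k K).injective
  exact two_ne_zero

omit [CharZero k] in
/-- The line is a curve of genus zero. -/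
theorem isCurveOfGenus_P1 (K : Type u) [Field K] [CharZero K] :
    ModFun.IsCurveOfGenus 0 (CohB1.ProjSpace.toSpec 1 K) := by
  let w : Fin 3 → K := ![1, -1, 1]
  have hw : ∀ i, w i ≠ 0 := fun i => by fin_cases i <;> simp [w]
  have hC := isCurveOfGenus hw (two_ne_zero : (2 : K) ≠ 0)
  obtain ⟨s, hs⟩ := GenusOneTwist.exists_section_of_zero (df w) (0 : Fin 3) ![1, 1, 0] rfl
    (by show MvPolynomial.eval _ (diag w) = 0; simp [eval_diag, Fin.sum_univ_three, w])
  obtain ⟨e, he⟩ := exists_iso_P1 hC s hs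
  exact isCurveOfGenus_of_iso e he hC

section

variable {L : Type u} [Field L]

/-- A point of the line from two tuples which agree up to a scalar. -/
theorem lift_eq {K : Type u} [Field K] (φ : K →+* L) {n : ℕ} {M N : Matrix (Fin (n + 1)) (Fin (n + 1)) L}
    (hNM : N * M = 1) (s : Spec (CommRingCat.of L) ⟶ CohB1.ProjSpace n L)
    (hs : s ≫ CohB1.ProjSpace.toSpec n L = 𝟙 _) {c : Fin (n + 1) → L}
    (hc : IsPtOf (n := n) (s (IsLocalRing.closedPoint L)) c) (j : Fin (n + 1))
    (hMc : M.mulVec c = Pi.single j 1) (r : Spec (CommRingCat.of K) ⟶ CohB1.ProjSpace n K)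
    (hr : r ≫ CohB1.ProjSpace.toSpec n K = 𝟙 _) (hrc : IsPtOf (n := n) (r (IsLocalRing.closedPoint K)) (Pi.single j 1)) :
    s ≫ linProj φ hNM = Spec.map (CommRingCat.ofHom φ) ≫ r := by
  have H := isPullback_linProj φ hNM
  let b : Spec (CommRingCat.of L) ⟶ CohB1.ProjSpace n L :=
    H.lift (Spec.map (CommRingCat.ofHom φ) ≫ r) (𝟙 _) (by rw [Category.assoc, hr, Category.comp_id, Category.id_comp])
  have hb : b ≫ linProj φ hNM = Spec.map (CommRingCat.ofHom φ) ≫ r := H.lift_fst _ _ _
  rw [← hb]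
  congr 1
  refine section_ext _ _ _ hs (H.lift_snd _ _ _) ?_
  obtain ⟨cb, hcb⟩ := exists_isPtOf b (H.lift_snd _ _ _)
  have hpt : linProj φ hNM (b (IsLocalRing.closedPoint L)) = r (IsLocalRing.closedPoint K) := by
    rw [← Scheme.Hom.comp_apply, hb, Scheme.Hom.comp_apply]
    exact congrArg r (Subsingleton.elim (α := PrimeSpectrum K) _ _)
  -- the coordinates
  have hz : ∀ i, i ≠ j → M.mulVec cb i = 0 := by
    intro i hi
    have h1 : MvPolynomial.X i ∈ pr (n := n) (r (IsLocalRing.closedPoint K)) :=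
      (hrc.2 (PicPn.X_mem i)).2 (by simp [hi])
    rw [← hpt, mem_pr_linProj φ hNM _ (PicPn.X_mem i), linHom_X] at h1
    rw [← eval_row M i cb]
    exact (hcb.2 ((MvPolynomial.mem_homogeneousSubmodule 1 _).2 (isHomogeneous_row M i))).1 h1
  have hne : M.mulVec cb j ≠ 0 := fun h0 => hcb.1 <| by
    have : M.mulVec cb = 0 := funext fun i => if hi : i = j then hi ▸ h0 else hz i hi
    rw [← Matrix.one_mulVec cb, ← hNM, ← Matrix.mulVec_mulVec, this, Matrix.mulVec_zero]
  have hc' : c = (M.mulVec cb j)⁻¹ • cb := by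
    have : M.mulVec cb = (M.mulVec cb j) • M.mulVec c := by
      rw [hMc]
      funext i
      by_cases hi : i = j
      · subst hi; simp
      · simp [hz i hi, hi]
    have h2 := congrArg N.mulVec this
    rw [Matrix.mulVec_mulVec, Matrix.mulVec_smul, Matrix.mulVec_mulVec, hNM, Matrix.one_mulVec, Matrix.one_mulVec] at h2
    conv_rhs => arg 2; rw [h2]
    rw [smul_smul, inv_mul_cancel₀ hne, one_smul]
  exact hc.eq (hc' ▸ hcb.smul (inv_ne_zero hne))

/-- Independent tuples at distinct points. -/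
theorem linearIndependent_of_ne {y y' : PicPn.P 1 L} {c c' : Fin 2 → L} (h : IsPtOf y c) (h' : IsPtOf y' c')
    (hne : y ≠ y') : LinearIndependent L ![c, c'] := by
  rw [LinearIndependent.pair_iff' h.1]
  intro t ht
  refine hne (IsPtOf.eq ?_ h')
  rw [← ht]
  exact h.smul fun h0 => h'.1 (by rw [← ht, h0, zero_smul])

end

variable (k)

/-- The standard pointed line over a field. -/
theorem exists_std (K : Type u) [Field K] [Algebra k K] (n : ℕ) (hn : n ≤ 2) :
    ∃ (A : CurvSt.PtFamObj (Spec (CommRingCat.of k)) n) (_ : A.base = SGA7.pt (K := k) K)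
      (r : Fin n → (Spec (CommRingCat.of K) ⟶ CohB1.ProjSpace 1 K)),
      CurvSt.IsSmoothPtdFam A.f A.sect 0 ∧
      (∀ i, r i ≫ CohB1.ProjSpace.toSpec 1 K = 𝟙 _ ∧
        IsPtOf (n := 1) (r i (IsLocalRing.closedPoint K)) (Pi.single (Fin.castLE hn i) 1)) ∧
      ∀ {B : CurvSt.PtFamObj (Spec (CommRingCat.of k)) n} (b : B.base ⟶ SGA7.pt (K := k) K)
        (t : B.C ⟶ CohB1.ProjSpace 1 K), IsPullback t B.f (CohB1.ProjSpace.toSpec 1 K) b.left →
        (∀ i, B.sect i ≫ t = b.left ≫ r i) → ∃ (φ : B ⟶ A), HEq φ.base b := by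
  haveI := charZero_of_injective_algebraMap (R := k) (A := K) (algebraMap k K).injective
  choose r hr using fun i : Fin n =>
    exists_section (k := K) (n := 1) (Fin.castLE hn i) (Pi.single (Fin.castLE hn i) 1) (by simp)
  refine ⟨⟨SGA7.pt (K := k) K, CohB1.ProjSpace 1 K, CohB1.ProjSpace.toSpec 1 K, r, fun i => (hr i).1⟩, rfl, r,
    ⟨isCurveOfGenus_P1 K, fun i j hij c h => ?_⟩, hr, fun {B} b t ht hs => ⟨⟨b, t, ht, hs⟩, HEq.rfl⟩⟩
  have hc : c = IsLocalRing.closedPoint K := Subsingleton.elim (α := PrimeSpectrum K) _ _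
  subst hc
  have h1 := (hr i).2
  have h2 := (hr j).2
  change r i (IsLocalRing.closedPoint K) = r j (IsLocalRing.closedPoint K) at h
  rw [h] at h1
  have hne : Fin.castLE hn i ≠ Fin.castLE hn j := fun e => hij (Fin.castLE_injective hn e)
  have hm : MvPolynomial.X (Fin.castLE hn i) ∈ pr (n := 1) (r j (IsLocalRing.closedPoint K)) :=
    (h2.2 (PicPn.X_mem _)).2 (by simp [hne])
  have := (h1.2 (PicPn.X_mem (Fin.castLE hn i))).1 hm
  simp at this

variable {k}

/-- A pointed curve with a rational point maps to the standard line over any smaller field. -/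
theorem exists_hom_std {L : Type u} [Field L] [Algebra k L] {n : ℕ} (hn : n ≤ 2)
    {C : Scheme.{u}} (f : C ⟶ Spec (CommRingCat.of L)) (σ : Fin n → (Spec (CommRingCat.of L) ⟶ C))
    (hσ : ∀ i, σ i ≫ f = 𝟙 _) (hC : ModFun.IsCurveOfGenus 0 f) (hd : ∀ i j, i ≠ j → ∀ c, σ i c ≠ σ j c)
    (s : Spec (CommRingCat.of L) ⟶ C) (hs : s ≫ f = 𝟙 _)
    (K : Type u) [Field K] [Algebra k K] (φ : K →ₐ[k] L) :
    ∃ (B : CurvSt.PtFamObj (Spec (CommRingCat.of k)) n) (_ : B.base = SGA7.pt (K := k) K)
      (_ : CurvSt.IsSmoothPtdFam B.f B.sect 0)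
      (ψ : (⟨SGA7.pt (K := k) L, C, f, σ, hσ⟩ : CurvSt.PtFamObj (Spec (CommRingCat.of k)) n) ⟶ B),
      HEq ψ.base (EssDim.resPt φ) := by
  classical
  haveI := charZero_of_injective_algebraMap (R := k) (A := L) (algebraMap k L).injective
  obtain ⟨e, he⟩ := exists_iso_P1 hC s hs
  have hsect : ∀ i, (σ i ≫ e.hom) ≫ CohB1.ProjSpace.toSpec 1 L = 𝟙 _ := fun i => by
    rw [Category.assoc, he, hσ]
  choose c hc using fun i => exists_isPtOf (σ i ≫ e.hom) (hsect i)
  have hinj : ∀ i j, i ≠ j → (σ i ≫ e.hom) (IsLocalRing.closedPoint L) ≠ (σ j ≫ e.hom) (IsLocalRing.closedPoint L) :=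
    fun i j hij h => hd i j hij _ (e.hom.homeomorph.injective (by simpa [Scheme.Hom.comp_apply] using h))
  -- a basis starting with the tuples
  obtain ⟨P, hP, hPc⟩ : ∃ P : Matrix (Fin 2) (Fin 2) L, IsUnit P.det ∧
      ∀ i, P.mulVec (Pi.single (Fin.castLE hn i) 1) = c i := by
    have hli : LinearIndependent L c := by
      rcases n with _ | _ | _ | n
      · exact linearIndependent_empty_type
      · haveI : Unique (Fin (0 + 1)) := inferInstanceAs (Unique (Fin 1))
        exact linearIndependent_unique_iff.2 (hc _).1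
      · rw [show c = ![c 0, c 1] from funext fun i => by fin_cases i <;> rfl]
        exact linearIndependent_of_ne (hc 0) (hc 1) (hinj 0 1 (by decide))
      · omega
    obtain ⟨w, hw, hwc⟩ : ∃ w : Fin 2 → (Fin 2 → L), LinearIndependent L w ∧ ∀ i, w (Fin.castLE hn i) = c i := by
      rcases n with _ | _ | _ | n
      · exact ⟨fun i => Pi.single i 1, Pi.linearIndependent_single_one _ _, fun i => i.elim0⟩
      · obtain ⟨v, hv⟩ : ∃ v : Fin 2 → L, LinearIndependent L ![c 0, v] := by
          by_contra! h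
          obtain ⟨a, ha⟩ : ∃ a : L, a • c 0 = Pi.single 0 1 := by
            by_contra! ha
            exact h _ ((LinearIndependent.pair_iff' (hc 0).1).2 ha)
          obtain ⟨b, hb⟩ : ∃ b : L, b • c 0 = Pi.single 1 1 := by
            by_contra! hb
            exact h _ ((LinearIndependent.pair_iff' (hc 0).1).2 hb)
          have a1 := congrFun ha 1
          have a0 := congrFun ha 0
          have b1 := congrFun hb 1
          simp at a1 a0 b1
          rcases a1 with h' | h'
          · simp [h'] at a0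
          · simp [h'] at b1
        exact ⟨![c 0, v], hv, fun i => by fin_cases i; rfl⟩
      · exact ⟨c, hli, fun i => rfl⟩
      · omega
    refine ⟨(Matrix.of w).transpose, ?_, fun i => ?_⟩
    · rw [Matrix.det_transpose, ← Matrix.isUnit_iff_isUnit_det, ← Matrix.linearIndependent_rows_iff_isUnit]
      exact hw
    · rw [Matrix.mulVec_single_one]
      exact hwc i
  have hNM : P * P⁻¹ = 1 := Matrix.mul_nonsing_inv P hP
  obtain ⟨A, hA, r, hsm, hr, hmor⟩ := exists_std k K n hn
  have hMc : ∀ i, P⁻¹.mulVec (c i) = Pi.single (Fin.castLE hn i) 1 := fun i => by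
    rw [← hPc i, Matrix.mulVec_mulVec, Matrix.nonsing_inv_mul P hP, Matrix.one_mulVec]
  have sq : IsPullback (e.hom ≫ linProj (φ : K →+* L) hNM) f (CohB1.ProjSpace.toSpec 1 K)
      (EssDim.resPt φ).left := by
    have h1 : IsPullback e.hom f (CohB1.ProjSpace.toSpec 1 L) (𝟙 _) :=
      IsPullback.of_horiz_isIso ⟨by rw [Category.comp_id, he]⟩
    simpa using h1.paste_horiz (isPullback_linProj (φ : K →+* L) hNM)
  obtain ⟨ψ, hψ⟩ := hmor (B := ⟨SGA7.pt (K := k) L, C, f, σ, hσ⟩) (EssDim.resPt φ)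
    (e.hom ≫ linProj (φ : K →+* L) hNM) sq fun i => by
      rw [← Category.assoc]
      exact lift_eq (φ : K →+* L) hNM _ (hsect i) (hc i) _ (hMc i) _ (hr i).1 (hr i).2
  exact ⟨A, hA, hsm, ψ, hψ⟩

end Groth.Agent.GenusZeroDesc
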