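import Groth.Agent.GenusZeroDesc.LinMap
import Groth.Agent.GenusOneTwist.Points

/-!
# Rational points of projective space, read on forms
-/

set_option autoImplicit false
set_option linter.style.haveILetI false
set_option backward.isDefEq.respectTransparency false
set_option backward.isDefEq.respectTransparency.types false

universe u

open CategoryTheory AlgebraicGeometry TopologicalSpace MvPolynomial
open Groth.Agent.QC (res resO resO_resO resO_self)

noncomputable section

namespace Groth.Agent.GenusZeroDesc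

variable {k : Type u} [Field k] {n : ℕ}

/-- Sections through the same point are equal. -/
theorem section_ext {Z : Scheme.{u}} (q : Z ⟶ Spec (CommRingCat.of k)) (s s' : Spec (CommRingCat.of k) ⟶ Z)
    (hs : s ≫ q = 𝟙 _) (hs' : s' ≫ q = 𝟙 _)
    (h : s (IsLocalRing.closedPoint k) = s' (IsLocalRing.closedPoint k)) : s = s' := by
  obtain ⟨⟨z, a⟩, rfl⟩ := (Scheme.SpecToEquivOfField k Z).symm.surjective s
  obtain ⟨⟨z', a'⟩, rfl⟩ := (Scheme.SpecToEquivOfField k Z).symm.surjective s'
  change Spec.map a ≫ Z.fromSpecResidueField z ≫ q = 𝟙 _ at hs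
  change Spec.map a' ≫ Z.fromSpecResidueField z' ≫ q = 𝟙 _ at hs'
  have hz : z = z' := by
    change Z.fromSpecResidueField z _ = Z.fromSpecResidueField z' _ at h
    rwa [Scheme.fromSpecResidueField_apply, Scheme.fromSpecResidueField_apply] at h
  subst hz
  show Spec.map a ≫ _ = Spec.map a' ≫ _
  have hb : Spec.map (Spec.preimage (Z.fromSpecResidueField z ≫ q)) = Z.fromSpecResidueField z ≫ q :=
    Spec.map_preimage _
  rw [← hb, ← Spec.map_comp, ← Spec.map_id] at hs hs'
  have e := Spec.map_injective hs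
  have e' := Spec.map_injective hs'
  have hinj : Function.Injective a.hom := RingHom.injective _
  suffices a = a' by rw [this]
  refine CommRingCat.hom_ext (RingHom.ext fun t => ?_)
  set b := Spec.preimage (Z.fromSpecResidueField z ≫ q)
  have he : ∀ c, a.hom (b.hom c) = c := fun c => ConcreteCategory.congr_hom e c
  have he' : ∀ c, a'.hom (b.hom c) = c := fun c => ConcreteCategory.congr_hom e' c
  obtain ⟨c, rfl⟩ : ∃ c, b.hom c = t := ⟨a.hom t, hinj (he _)⟩
  exact (he c).trans (he' c).symm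

/-- `c` is the tuple of the point `y`. -/
def IsPtOf (y : PicPn.P n k) (c : Fin (n + 1) → k) : Prop :=
  c ≠ 0 ∧ ∀ {d : ℕ} {A : MvPolynomial (Fin (n + 1)) k}, A ∈ CohB1.polyGrading n k d → (A ∈ pr y ↔ eval c A = 0)

theorem IsPtOf.eq {y y' : PicPn.P n k} {c : Fin (n + 1) → k} (h : IsPtOf y c) (h' : IsPtOf y' c) : y = y' := by
  classical
  have key : ∀ z z' : PicPn.P n k, IsPtOf z c → IsPtOf z' c → pr z ≤ pr z' := by
    intro z z' h h' a ha
    rw [← DirectSum.sum_support_decompose (CohB1.polyGrading n k) a]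
    refine Ideal.sum_mem _ fun j _ => ?_
    exact (h'.2 (SetLike.coe_mem _)).2 ((h.2 (SetLike.coe_mem _)).1
      ((show ProjectiveSpectrum (CohB1.polyGrading n k) from z).asHomogeneousIdeal.2 j ha))
  exact ProjectiveSpectrum.ext (HomogeneousIdeal.ext (le_antisymm (key y y' h h') (key y' y h' h)))

/-- Proportional tuples. -/
theorem IsPtOf.smul {y : PicPn.P n k} {c : Fin (n + 1) → k} (h : IsPtOf y c) {t : k} (ht : t ≠ 0) :
    IsPtOf y (t • c) := by
  refine ⟨smul_ne_zero ht h.1, fun {d A} hA => (h.2 hA).trans ?_⟩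
  have e : eval (t • c) A = t ^ d * eval c A := by
    have hA' := (MvPolynomial.mem_homogeneousSubmodule d A).1 hA
    rw [eval_eq, eval_eq, Finset.mul_sum]
    refine Finset.sum_congr rfl fun m hm => ?_
    have hdeg : ∑ i ∈ m.support, m i = d := hA'.degree_eq_sum_deg_support hm ▸ rfl
    simp only [Pi.smul_apply, smul_eq_mul, mul_pow, Finset.prod_mul_distrib, Finset.prod_pow_eq_pow_sum, hdeg]
    ring
  rw [e, mul_eq_zero, or_iff_right (pow_ne_zero d ht)]

/-- A point where the coordinate ratios are constants has a tuple. -/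
theorem isPtOf_of_mem {y : PicPn.P n k} {l : Fin (n + 1)} (hl : y ∈ PicPn.ch (k := k) l) (c : Fin (n + 1) → k)
    (hc : c l = 1) (h : ∀ j, X j - C (c j) * X l ∈ pr y) : IsPtOf y c := by
  refine ⟨fun h0 => one_ne_zero (hc.symm.trans (by rw [h0]; rfl)), fun {d A} hA => ?_⟩
  have hXl : X l ∉ pr y := (ProjectiveSpectrum.mem_basicOpen _ _ y).1 hl
  let θ : MvPolynomial (Fin (n + 1)) k →+* MvPolynomial (Fin (n + 1)) k ⧸ pr y := Ideal.Quotient.mk _
  have hθ : θ A = θ (C (eval c A) * X l ^ d) := by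
    have e1 : θ = θ.comp (eval₂Hom C fun j => C (c j) * X l) := MvPolynomial.ringHom_ext
      (fun a => by simp) fun j => by
        rw [RingHom.comp_apply, eval₂Hom_X', ← sub_eq_zero, ← map_sub, Ideal.Quotient.eq_zero_iff_mem]
        exact h j
    have e2 : eval₂Hom C (fun j => C (c j) * X l) A = C (eval c A) * X l ^ d := by
      have hA' := (MvPolynomial.mem_homogeneousSubmodule d A).1 hA
      simp only [coe_eval₂Hom, eval₂_eq, eval_eq, map_sum, Finset.sum_mul]
      refine Finset.sum_congr rfl fun m hm => ?_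
      have hdeg : ∑ i ∈ m.support, m i = d := hA'.degree_eq_sum_deg_support hm ▸ rfl
      simp only [mul_pow, Finset.prod_mul_distrib, Finset.prod_pow_eq_pow_sum, hdeg, map_mul, map_prod, map_pow]
      ring
    rw [← e2]
    exact RingHom.congr_fun e1 A
  have hmem : A ∈ pr y ↔ C (eval c A) * X l ^ d ∈ pr y := by
    rw [← Ideal.Quotient.eq_zero_iff_mem, ← Ideal.Quotient.eq_zero_iff_mem]
    exact ⟨fun e => hθ.symm.trans e, fun e => hθ.trans e⟩
  rw [hmem]
  refine ⟨fun e => by_contra fun h0 => ?_, fun e => by rw [e, map_zero, zero_mul]; exact zero_mem _⟩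
  have hp := (show ProjectiveSpectrum (CohB1.polyGrading n k) from y).isPrime
  rcases hp.mem_or_mem e with e | e
  · exact not_isUnit_pr y e ((isUnit_iff_ne_zero.2 h0).map C)
  · exact hXl (hp.mem_of_pow_mem d e)

/-- A rational point has a tuple. -/
theorem exists_isPtOf (s : Spec (CommRingCat.of k) ⟶ CohB1.ProjSpace n k)
    (hs : s ≫ CohB1.ProjSpace.toSpec n k = 𝟙 _) :
    ∃ c, IsPtOf (n := n) (s (IsLocalRing.closedPoint k)) c := by
  obtain ⟨l, hl⟩ := PicPn.exists_mem_ch (k := k) (n := n) (s (IsLocalRing.closedPoint k))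
  have hle : ⊤ ≤ s ⁻¹ᵁ PicPn.ch (k := k) l := fun z _ => by
    obtain rfl : z = IsLocalRing.closedPoint k := Subsingleton.elim _ _
    exact hl
  let ψ : Γ(PicPn.P n k, PicPn.ch (k := k) l) →+* k :=
    (Scheme.ΓSpecIso (CommRingCat.of k)).hom.hom.comp (ProjMor.ev s _ ⊤ hle)
  have hψC : ∀ a, ψ (GrT.deh (CohB1.polyGrading n k) (PicPn.X_mem l) (C a)) = a := fun a => by
    have e := ProjMor.ev_deh_algebraMap (CohB1.polyGrading n k) s (q := 𝟙 _) hs (PicPn.X_mem l) hle a
    show (Scheme.ΓSpecIso (CommRingCat.of k)).hom (ProjMor.ev s _ ⊤ hle (GrT.deh _ _ (algebraMap k _ a))) = a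
    erw [e]
    exact (congrArg _ (resO_self _ _)).trans
      (ConcreteCategory.congr_hom (Scheme.ΓSpecIso (CommRingCat.of k)).inv_hom_id a)
  let c : Fin (n + 1) → k := fun j => ψ (PicPn.z l j)
  have hc : c l = 1 := by simp [c, PicPn.z, GrT.deh_self]
  refine ⟨c, isPtOf_of_mem hl c hc fun j => ?_⟩
  have hm : X j - C (c j) * X l ∈ CohB1.polyGrading n k 1 :=
    sub_mem (PicPn.X_mem j) ((MvPolynomial.isHomogeneous_X k l).C_mul _)
  by_contra hn
  have hb := (mem_basicOpen_deh hl hm).2 hn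
  have h0 : ψ (GrT.deh (CohB1.polyGrading n k) (PicPn.X_mem l) (X j - C (c j) * X l)) = 0 := by
    rw [map_sub, map_mul, GrT.deh_self, mul_one, map_sub, hψC]
    exact sub_self _
  have h1 : ProjMor.ev s _ ⊤ hle (GrT.deh (CohB1.polyGrading n k) (PicPn.X_mem l) (X j - C (c j) * X l)) = 0 :=
    (Scheme.ΓSpecIso (CommRingCat.of k)).commRingCatIsoToRingEquiv.map_eq_zero_iff.1 h0
  have h2 : IsLocalRing.closedPoint k ∈ (Spec (CommRingCat.of k)).basicOpen
      (ProjMor.ev s _ ⊤ hle (GrT.deh (CohB1.polyGrading n k) (PicPn.X_mem l) (X j - C (c j) * X l))) := by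
    rw [ProjMor.ev, Scheme.Hom.appLE]
    erw [CategoryTheory.comp_apply, Scheme.basicOpen_res, ← Scheme.preimage_basicOpen]
    exact ⟨trivial, hb⟩
  rw [h1, Scheme.basicOpen_zero] at h2
  exact h2

theorem IsPtOf.of_map {k' : Type u} [Field k'] (φ : k →+* k') {M N : Matrix (Fin (n + 1)) (Fin (n + 1)) k'}
    (hNM : N * M = 1) {y : PicPn.P n k'} {c : Fin (n + 1) → k'} (h : IsPtOf y c) (c₀ : Fin (n + 1) → k)
    (hc₀ : M.mulVec c = fun j => φ (c₀ j)) : IsPtOf (linProj φ hNM y) c₀ := by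
  refine ⟨fun h0 => h.1 ?_, fun {d A} hA => ?_⟩
  · have e : c = N.mulVec (M.mulVec c) := by rw [Matrix.mulVec_mulVec, hNM, Matrix.one_mulVec]
    rw [e, hc₀, h0]
    simp only [Pi.zero_apply, map_zero]
    exact Matrix.mulVec_zero _
  · rw [mem_pr_linProj φ hNM y hA, h.2 (linHom_mem φ M hA), eval_linHom, hc₀]
    have e : eval₂ φ (fun j => φ (c₀ j)) A = φ (eval c₀ A) := (eval₂_comp_left φ (RingHom.id k) c₀ A).symm
    rw [e, map_eq_zero_iff φ φ.injective]

/-- A tuple with a coordinate one gives a rational point. -/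
theorem exists_section (l : Fin (n + 1)) (c : Fin (n + 1) → k) (hc : c l = 1) :
    ∃ s : Spec (CommRingCat.of k) ⟶ CohB1.ProjSpace n k, s ≫ CohB1.ProjSpace.toSpec n k = 𝟙 _ ∧
      IsPtOf (n := n) (s (IsLocalRing.closedPoint k)) c := by
  let χ : Γ(PicPn.P n k, PicPn.ch (k := k) l) →+* k :=
    ProjMor.chartHom (PicPn.X_mem l) (MvPolynomial.eval c) (by rw [eval_X, hc])
  obtain ⟨r, hr, hev⟩ := ProjMor.exists_hom_of_ringHom (PicPn.ch (k := k) l) (PicPn.isAffineOpen_ch l)
    ((Scheme.ΓSpecIso (CommRingCat.of k)).inv.hom.comp χ)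
  have hs : r ≫ CohB1.ProjSpace.toSpec n k = 𝟙 _ := by
    refine ProjMor.ext_toSpec fun a => ?_
    have e := ProjMor.ev_deh_algebraMap (CohB1.polyGrading n k) r (q := r ≫ CohB1.ProjSpace.toSpec n k) rfl
      (PicPn.X_mem l) hr a
    rw [hev] at e
    refine ((e.trans (resO_self _ _)).symm.trans ?_)
    show (Scheme.ΓSpecIso (CommRingCat.of k)).inv (χ (GrT.deh _ _ (algebraMap k _ a))) = _
    rw [ProjMor.chartHom_deh, MvPolynomial.algebraMap_eq, eval_C]
    simp [ProjUP.toGlobal]
  have hl : r (IsLocalRing.closedPoint k) ∈ PicPn.ch (k := k) l := hr trivial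
  refine ⟨r, hs, isPtOf_of_mem hl c hc fun j => ?_⟩
  have hm : X j - C (c j) * X l ∈ CohB1.polyGrading n k 1 :=
    sub_mem (PicPn.X_mem j) ((MvPolynomial.isHomogeneous_X k l).C_mul _)
  by_contra hn
  have hb := (mem_basicOpen_deh hl hm).2 hn
  have h1 : ProjMor.ev r _ ⊤ hr (GrT.deh (CohB1.polyGrading n k) (PicPn.X_mem l) (X j - C (c j) * X l)) = 0 := by
    rw [hev]
    show (Scheme.ΓSpecIso (CommRingCat.of k)).inv (χ _) = 0
    rw [ProjMor.chartHom_deh]
    simp [hc]
  have h2 : IsLocalRing.closedPoint k ∈ (Spec (CommRingCat.of k)).basicOpen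
      (ProjMor.ev r _ ⊤ hr (GrT.deh (CohB1.polyGrading n k) (PicPn.X_mem l) (X j - C (c j) * X l))) := by
    rw [ProjMor.ev, Scheme.Hom.appLE]
    erw [CategoryTheory.comp_apply, Scheme.basicOpen_res, ← Scheme.preimage_basicOpen]
    exact ⟨trivial, hb⟩
  rw [h1, Scheme.basicOpen_zero] at h2
  exact h2

end Groth.Agent.GenusZeroDesc
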